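import Groth.Agent.H29Clifford.Basic

/-!
# Equality in Clifford's theorem
-/

set_option autoImplicit false
set_option linter.style.haveILetI false
set_option linter.unusedSectionVars false
set_option maxHeartbeats 1000000
universe u

open CategoryTheory CategoryTheory.Limits AlgebraicGeometry Opposite TopologicalSpace

namespace Groth.Agent.H29Clifford

open Groth.Agent.H29RR Groth.Agent.H29CurveDual

attribute [local instance 10000] H10Coh.hasSheafifyAb H10Coh.hasWeakSheafifyAb H10Coh.hasExtAb H10Coh.enoughInjAb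
attribute [local instance] Curv2.resAlgebra

variable {k : Type u} [Field k] [IsAlgClosed k] {X : Scheme.{u}} [X.Over (Spec (CommRingCat.of k))]
  [IsProper (X ↘ Spec (CommRingCat.of k))] [IsIntegral X] [Smooth (X ↘ Spec (CommRingCat.of k))]

local notation "Ω" => Omega.sheaf (X ↘ Spec (CommRingCat.of k))

/-- Clifford's bound in the whole range of degrees. -/
theorem two_h0_le (hdim : topologicalKrullDim X = 1) {L : X.Modules} (hL : PicF.IsInvertible L)
    (hd0 : 0 ≤ Curv2.deg k X L 1) (hd1 : Curv2.deg k X L 1 ≤ 2 * (Curv2.genus k X : ℤ) - 2) :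
    2 * (Module.finrank k (Coh.HH X L 0) : ℤ) ≤ Curv2.deg k X L 1 + 2 := by
  by_cases h : Module.finrank k (Coh.HH X L 0) = 0
  · omega
  obtain ⟨m, hm⟩ := Nat.exists_eq_succ_of_ne_zero h
  obtain ⟨-, h | h⟩ := h0_bound (k := k) hdim.le hL (m := m) (by omega)
  · omega
  · omega

/-- The residual of an invertible module. -/
theorem exists_residual (hdim : topologicalKrullDim X = 1) {L : X.Modules} (hL : PicF.IsInvertible L) :
    ∃ L' : X.Modules, PicF.IsInvertible L' ∧
      Curv2.deg k X L' 1 = 2 * (Curv2.genus k X : ℤ) - 2 - Curv2.deg k X L 1 ∧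
      (Module.finrank k (Coh.HH X L' 0) : ℤ) =
        Module.finrank k (Coh.HH X L 0) - Curv2.deg k X L 1 + Curv2.genus k X - 1 := by
  obtain ⟨N, hN, ⟨e⟩⟩ := exists_inverse_comm hL
  have hΩ := isInvertible_omega_curve (k := k) hdim
  have h00 := finrank_h0_structure k X
  have hrr := riemann_roch (k := k) hdim.le L
  rw [h00, finrank_h1_invertible (k := k) hdim hL hN e] at hrr
  refine ⟨CohB1.tensorMod Ω N, H11Ample.isInvertible_tensor hΩ hN, ?_, by omega⟩
  rw [deg_quot (k := k) hdim.le hL hΩ hN e, deg_omega_of_h0 hdim h00]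

/-- The sections vanishing at a point of an invertible module. -/
theorem h0_le_vanishSub (hdim : topologicalKrullDim X = 1) {L : X.Modules} (hL : PicF.IsInvertible L) {P : X}
    (hP : IsClosed ({P} : Set X)) :
    Module.finrank k (Coh.HH X L 0) ≤ Module.finrank k (vanishSub k P L) + 1 := by
  obtain ⟨-, h, -⟩ := twist_point (k := k) hP hL (isCoh_of_isInvertible (isInvertible_pt (k := k) hdim hP))
  rw [finrank_residue_eq_one (k := k) hP] at h
  rw [finrank_vanishSub (k := k) (rank_one_of_isInvertible hL)]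
  exact h

/-- A section of a residual pencil vanishing at one point and not at another. -/
theorem exists_point_pair (hdim : topologicalKrullDim X = 1) {L : X.Modules} (hL : PicF.IsInvertible L)
    (h2 : 2 ≤ Module.finrank k (Coh.HH X L 0)) :
    ∃ P Q : X, IsClosed ({P} : Set X) ∧ IsClosed ({Q} : Set X) ∧
      ∃ w ∈ vanishSub k P L, w ∉ vanishSub k Q L := by
  haveI := isNoetherian_of_proper (k := k) (X := X)
  obtain ⟨P, -, hP, -⟩ := exists_point (k := k) hdim ⊤ trivial
  haveI := finite_HH (k := k) L hL 0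
  have hv := h0_le_vanishSub (k := k) hdim hL hP
  obtain ⟨w, hw, hw0⟩ := Submodule.exists_mem_ne_zero_of_ne_bot
    (p := vanishSub k P L) fun h => by rw [h, finrank_bot] at hv; omega
  have hg : sec L w ≠ 0 := fun h => hw0 ((sec L).injective (h.trans (map_zero _).symm))
  obtain ⟨Q, hQw, hQ, hIQ⟩ := exists_point (k := k) hdim _ (genericPoint_mem_gen hL hg)
  refine ⟨P, Q, hP, hQ, w, hw, fun hwQ => ?_⟩
  obtain ⟨-, hrng, -⟩ := ptIncl_stalks (k := k) hQ (finrank_residue_eq_one (k := k) hQ) hL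
    (isInvertible_pt (k := k) hdim hQ)
  obtain ⟨w', hw'⟩ := hwQ
  refine (mem_gen_iff_notMem hL _ Q).1 hQw ?_
  rw [← hrng, ← hw', sec_natural, ← germ_app]
  exact ⟨_, rfl⟩

/-- Splitting off a common part: an effective module with equality in Clifford of smaller degree. -/
theorem exists_smaller (hdim : topologicalKrullDim X = 1) {L : X.Modules} (hL : PicF.IsInvertible L)
    (hd : Curv2.deg k X L 1 < 2 * (Curv2.genus k X : ℤ) - 2) (h3 : 3 ≤ Module.finrank k (Coh.HH X L 0))
    (heq : 2 * (Module.finrank k (Coh.HH X L 0) : ℤ) = Curv2.deg k X L 1 + 2) :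
    ∃ J : X.Modules, PicF.IsInvertible J ∧ 0 < Curv2.deg k X J 1 ∧ Curv2.deg k X J 1 < Curv2.deg k X L 1 ∧
      2 * (Module.finrank k (Coh.HH X J 0) : ℤ) = Curv2.deg k X J 1 + 2 := by
  haveI := isNoetherian_of_proper (k := k) (X := X)
  obtain ⟨L', hL', hdL', hL'0⟩ := exists_residual (k := k) hdim hL
  obtain ⟨P, Q, hP, hQ, w, hwP, hwQ⟩ := exists_point_pair (k := k) hdim hL' (by omega)
  haveI := finite_HH (k := k) L hL 0
  haveI := finite_HH (k := k) L' hL' 0
  obtain ⟨v, hv, hv0⟩ := Submodule.exists_mem_ne_zero_of_ne_bot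
    (p := vanishSub k P L ⊓ vanishSub k Q L) fun h => by
    have := Submodule.finrank_sup_add_finrank_inf_eq (vanishSub k P L) (vanishSub k Q L)
    rw [h, finrank_bot] at this
    have := h0_le_vanishSub (k := k) hdim hL hP
    have := h0_le_vanishSub (k := k) hdim hL hQ
    have := Submodule.finrank_le (vanishSub k P L ⊔ vanishSub k Q L)
    omega
  let E := L ⊞ L'
  have hS := (ShortComplex.Splitting.ofHasBinaryBiproduct L L').shortExact
  have hE : FlatMod.IsFinLocFreeOfRank 2 E :=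
    exists_rank_of_extension (k := k) hdim.le hS (rank_one_of_isInvertible hL) (rank_one_of_isInvertible hL')
  obtain ⟨-, hdE⟩ := deg_add_of_shortExact (k := k) hS (rank_one_of_isInvertible hL) hE
    (rank_one_of_isInvertible hL')
  let u : Coh.HH X E 0 := Canon.HHlin k (biprod.inl : L ⟶ E) 0 v + Canon.HHlin k (biprod.inr : L' ⟶ E) 0 w
  have hfst : Canon.HHlin k (biprod.fst : E ⟶ L) 0 u = v := by
    rw [map_add, ← hhlin_comp, ← hhlin_comp, biprod.inl_fst, biprod.inr_fst, hhlin_id, hhlin_zero, add_zero]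
  have hsnd : Canon.HHlin k (biprod.snd : E ⟶ L') 0 u = w := by
    rw [map_add, ← hhlin_comp, ← hhlin_comp, biprod.inl_snd, biprod.inr_snd, hhlin_id, hhlin_zero, zero_add]
  have hu0 : u ≠ 0 := fun h => hv0 (by rw [← hfst, h, map_zero])
  have hpush : ∀ {A B : X.Modules} (φ : A ⟶ B) (R : X) (z : Coh.HH X A 0), z ∈ vanishSub k R A →
      Canon.HHlin k φ 0 z ∈ vanishSub k R B := by
    rintro A B φ R z ⟨z', rfl⟩
    exact ⟨Canon.HHlin k (((DCoh.tensorBi (X := X)).obj (ClSub.idealMod (ptIdeal R))).map φ) 0 z',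
      (hhlin_comp (k := k) _ _ 0 _).symm.trans ((congrArg (fun f => Canon.HHlin k f 0 z') (ptIncl_natural R φ)).trans
        (hhlin_comp (k := k) _ _ 0 _))⟩
  obtain ⟨J, j, hjm, hJ, hC, hdJ, z, hz⟩ := exists_line_pos (k := k) hdim hE hP hu0
    (Submodule.add_mem _ (hpush _ P v hv.1) (hpush _ P w hwP))
  haveI := hjm
  let φ : J ⟶ L := j ≫ biprod.fst
  let ψ : J ⟶ L' := j ≫ biprod.snd
  have hφz : Canon.HHlin k φ 0 z = v := by rw [hhlin_comp, hz, hfst]
  have hψz : Canon.HHlin k ψ 0 z = w := by rw [hhlin_comp, hz, hsnd]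
  have hφ0 : φ ≠ 0 := fun h => hv0 (by rw [← hφz, h, hhlin_zero])
  obtain ⟨hle, hiso⟩ := deg_le_of_ne_zero (k := k) hdim.le hJ hL hφ0
  have hlt : Curv2.deg k X J 1 < Curv2.deg k X L 1 := by
    refine lt_of_le_of_ne hle fun h => hwQ ?_
    haveI := hiso h
    have hzv : z = Canon.HHlin k (inv φ) 0 v := by rw [← hφz, ← hhlin_comp, IsIso.hom_inv_id, hhlin_id]
    rw [← hψz, hzv, ← hhlin_comp]
    exact hpush _ Q v hv.2
  have hSJ : (ShortComplex.mk j (cokernel.π j) (cokernel.condition _)).ShortExact :=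
    { exact := ShortComplex.exact_cokernel _ }
  obtain ⟨-, hdsum⟩ := deg_add_of_shortExact (k := k) hSJ (rank_one_of_isInvertible hJ) hE
    (rank_one_of_isInvertible hC)
  change Curv2.deg k X E 2 = Curv2.deg k X J 1 + Curv2.deg k X (cokernel j) 1 at hdsum
  change Curv2.deg k X E 2 = Curv2.deg k X L 1 + Curv2.deg k X L' 1 at hdE
  haveI := finite_HH (k := k) (cokernel j) hC 0
  haveI : Module.Finite k (Coh.HH X E 0) := H10Coh.finite_HH_proper k X E (isCoh_of_rank hE) 0
  have hseq := H29Pencil.h0_le_add (k := k) hSJ inferInstance inferInstance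
  change Module.finrank k (Coh.HH X E 0) ≤
    Module.finrank k (Coh.HH X J 0) + Module.finrank k (Coh.HH X (cokernel j) 0) at hseq
  rw [show Module.finrank k (Coh.HH X E 0) = _ from finrank_hh_biprod (k := k) L L' 0] at hseq
  have b1 := two_h0_le (k := k) hdim hJ (by omega) (by omega)
  have b2 := two_h0_le (k := k) hdim hC (by omega) (by omega)
  exact ⟨J, hJ, hdJ, hlt, by omega⟩

/-- Equality in Clifford's theorem forces a pencil of degree two. -/
theorem exists_g12 (hdim : topologicalKrullDim X = 1) (n : ℕ) : ∀ {L : X.Modules}, PicF.IsInvertible L →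
    Curv2.deg k X L 1 ≤ n → 0 < Curv2.deg k X L 1 → Curv2.deg k X L 1 < 2 * (Curv2.genus k X : ℤ) - 2 →
    2 * (Module.finrank k (Coh.HH X L 0) : ℤ) = Curv2.deg k X L 1 + 2 →
    ∃ N : X.Modules, PicF.IsInvertible N ∧ Curv2.deg k X N 1 = 2 ∧ 2 ≤ Module.finrank k (Coh.HH X N 0) := by
  induction n with
  | zero =>
    intro L _ h0 h1 _ _
    exact absurd h0 (by omega)
  | succ n ih =>
    intro L hL h0 h1 h2 heq
    rcases Nat.lt_or_ge (Module.finrank k (Coh.HH X L 0)) 3 with h3 | h3
    · exact ⟨L, hL, by omega, by omega⟩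
    · obtain ⟨J, hJ, hJ0, hJlt, hJeq⟩ := exists_smaller (k := k) hdim hL h2 h3 heq
      exact ih hJ (by omega) hJ0 (by omega) hJeq

/-- The multiples of a pencil of degree two. -/
theorem h0_pow_ge (hdim : topologicalKrullDim X = 1) {N : X.Modules} (hN : PicF.IsInvertible N)
    (h2 : 2 ≤ Module.finrank k (Coh.HH X N 0)) : ∀ n : ℕ, n + 1 ≤ Module.finrank k (Coh.HH X (CohB1.tensorPow N n) 0)
  | 0 => (finrank_h0_structure k X).ge
  | n + 1 => by
    have ih := h0_pow_ge hdim hN h2 n
    have := h0_tensor_ge (k := k) (H11Ample.isInvertible_tensorPow hN n) hN (by omega) (by omega)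
    show _ ≤ Module.finrank k (Coh.HH X (CohB1.tensorMod (CohB1.tensorPow N n) N) 0)
    omega

/-- An invertible module of degree `2g - 2` with `g` sections is canonical. -/
theorem nonempty_iso_omega (hdim : topologicalKrullDim X = 1) {A : X.Modules} (hA : PicF.IsInvertible A)
    (hd : Curv2.deg k X A 1 = 2 * (Curv2.genus k X : ℤ) - 2)
    (h0 : Curv2.genus k X ≤ Module.finrank k (Coh.HH X A 0)) : Nonempty (A ≅ Ω) := by
  obtain ⟨M, hM, ⟨e⟩⟩ := exists_inverse_comm hA
  have hΩ := isInvertible_omega_curve (k := k) hdim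
  have h00 := finrank_h0_structure k X
  have hrr := riemann_roch (k := k) hdim.le A
  rw [h00, finrank_h1_invertible (k := k) hdim hA hM e] at hrr
  have hD := H11Ample.isInvertible_tensor hΩ hM
  haveI : Nontrivial (Coh.HH X (CohB1.tensorMod Ω M) 0) := Module.nontrivial_of_finrank_pos (R := k) (by omega)
  obtain ⟨i⟩ := (bounds_of_section (k := k) hdim.le hD inferInstance).2.2.2 (by
    rw [deg_quot (k := k) hdim.le hA hΩ hM e, deg_omega_of_h0 hdim h00, hd, sub_self])
  exact ⟨(H10Coh.Tw.leftUnitIso A).symm ≪≫ PicGrp.tensorModIso i.symm (Iso.refl A) ≪≫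
    H10Coh.Tw.assoc Ω M A ≪≫ PicGrp.tensorModIso (Iso.refl Ω) (H10Coh.Tw.commIso M A ≪≫ e) ≪≫
    H10Coh.Tw.rightUnitIso Ω⟩

/-- A module with equality in Clifford is a multiple of any pencil of degree two. -/
theorem nonempty_iso_pow (hdim : topologicalKrullDim X = 1) {N : X.Modules} (hN : PicF.IsInvertible N)
    (hdN : Curv2.deg k X N 1 = 2) (h2 : 2 ≤ Module.finrank k (Coh.HH X N 0)) {L : X.Modules}
    (hL : PicF.IsInvertible L) {r : ℕ} (hr : Module.finrank k (Coh.HH X L 0) = r + 1)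
    (hd : Curv2.deg k X L 1 = 2 * r) (hrg : r + 1 ≤ Curv2.genus k X) : Nonempty (L ≅ CohB1.tensorPow N r) := by
  obtain ⟨s, hs⟩ := Nat.exists_eq_add_of_le hrg
  have hP := H11Ample.isInvertible_tensorPow hN s
  have hR := H11Ample.isInvertible_tensorPow hN r
  have hdP := H22Alg.CurveAmple.deg_tensorPow (k := k) hdim.le hN s
  have hdR := H22Alg.CurveAmple.deg_tensorPow (k := k) hdim.le hN r
  have h0P := h0_pow_ge (k := k) hdim hN h2 s
  have h0R := h0_pow_ge (k := k) hdim hN h2 r
  have key : ∀ {A : X.Modules}, PicF.IsInvertible A → Curv2.deg k X A 1 = 2 * r →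
      r + 1 ≤ Module.finrank k (Coh.HH X A 0) → Nonempty (CohB1.tensorMod A (CohB1.tensorPow N s) ≅ Ω) := by
    intro A hA hdA hA0
    refine nonempty_iso_omega (k := k) hdim (H11Ample.isInvertible_tensor hA hP) ?_ ?_
    · rw [deg_tensor (k := k) hdim.le hA hP, hdA, hdP, hdN, hs]; push_cast; ring
    · have := h0_tensor_ge (k := k) hA hP (by omega) (by omega)
      omega
  obtain ⟨a⟩ := key hL hd (by omega)
  obtain ⟨b⟩ := key hR (by rw [hdR, hdN]; ring) h0R
  obtain ⟨M, -, ⟨e⟩⟩ := exists_inverse_comm hP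
  let cancel : ∀ A : X.Modules, A ≅ CohB1.tensorMod (CohB1.tensorMod A (CohB1.tensorPow N s)) M := fun A =>
    (H10Coh.Tw.rightUnitIso A).symm ≪≫ PicGrp.tensorModIso (Iso.refl A) e.symm ≪≫
      (H10Coh.Tw.assoc A _ M).symm
  exact ⟨cancel L ≪≫ PicGrp.tensorModIso (a ≪≫ b.symm) (Iso.refl M) ≪≫ (cancel _).symm⟩

end Groth.Agent.H29Clifford
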